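import Mathlib

/-!
The arithmetic of a proper overgroup of a Singer normaliser in `SU₃(q)`.
-/

set_option autoImplicit false

namespace Cfsg.Agent.H36.SUThreeGeo.Singer

set_option synthInstance.maxSize 2000 in
set_option synthInstance.maxHeartbeats 400000 in
lemma arith_small : ∀ q < 39, ∀ k < q + 2, 2 ≤ q → 0 < k →
    3 * (1 + k * ((q ^ 2 - q + 1) / Nat.gcd 3 (q ^ 2 - q + 1))) < (q + 1) ^ 2 * (q - 1) →
    q ^ 3 * ((q + 1) ^ 2 * (q - 1)) % (3 * (1 + k * ((q ^ 2 - q + 1) / Nat.gcd 3 (q ^ 2 - q + 1)))) = 0 →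
    q = 2 ∨ q = 3 ∨ q = 5 ∨ q = 6 ∨ q = 14 ∨ q = 35 ∨ (q = 8 ∧ k = 5) := by
  decide +kernel

theorem singer_arith {p e q k : ℕ} (hp : p.Prime) (he : q = p ^ e) (hq : 3 ≤ q) (h3 : q ≠ 3)
    (h5 : q ≠ 5) {sb : ℕ} (hsb : Nat.gcd 3 (q ^ 2 - q + 1) * sb = q ^ 2 - q + 1) (hk : 1 ≤ k)
    (hlt : 3 * (1 + k * sb) < (q + 1) ^ 2 * (q - 1))
    (hdvd : 3 * (1 + k * sb) ∣ q ^ 3 * ((q + 1) ^ 2 * (q - 1))) : q = 8 ∧ 1 + k * sb = 96 := by
  set s := q ^ 2 - q + 1 with hs
  have hsq : s + q = q ^ 2 + 1 := by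
    have : q ≤ q ^ 2 := by nlinarith
    omega
  obtain ⟨r, rfl⟩ : ∃ r, q = r + 2 := ⟨q - 2, by omega⟩
  have hs2 : s = r ^ 2 + 3 * r + 3 := by
    have h := hsq
    rw [show (r + 2) ^ 2 + 1 = r ^ 2 + 3 * r + 3 + (r + 2) by ring] at h
    omega
  clear_value s
  have hD : (r + 2 + 1) ^ 2 * (r + 2 - 1) + 3 = (r + 2 + 2) * s := by
    rw [show r + 2 - 1 = r + 1 by omega]
    rw [hs2]; ring
  obtain ⟨j, hj, hjk⟩ : ∃ j, 3 * (1 + k * sb) = 3 + j * s ∧ k ≤ j := by
    rcases Nat.prime_three.eq_one_or_self_of_dvd _ (Nat.gcd_dvd_left 3 s) with h | h <;> rw [h] at hsb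
    · exact ⟨3 * k, by rw [one_mul] at hsb; rw [hsb]; ring, by omega⟩
    · exact ⟨k, by rw [← hsb]; ring, le_rfl⟩
  have hj1 : 1 ≤ j := hk.trans hjk
  have hjq : j ≤ r + 3 := by
    by_contra hcon
    have : (r + 2 + 2) * s ≤ j * s := Nat.mul_le_mul_right s (by omega)
    omega
  suffices hsmall : r + 2 < 39 by
    have hsb' : sb = s / Nat.gcd 3 s := by
      exact (Nat.div_eq_of_eq_mul_right (Nat.gcd_pos_of_pos_left _ (by norm_num)) hsb.symm).symm
    rw [hsb', hs] at hlt hdvd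
    rcases arith_small (r + 2) hsmall k (by omega) (by omega) (by omega) hlt
        (Nat.mod_eq_zero_of_dvd hdvd |> id) with h | h | h | h | h | h | ⟨h, rfl⟩
    · omega
    · exact absurd h h3
    · exact absurd h h5
    · exfalso; rw [h] at he
      have h2 := (Nat.prime_dvd_prime_iff_eq Nat.prime_two hp).1
        (Nat.prime_two.dvd_of_dvd_pow (show 2 ∣ p ^ e by omega))
      have h33 := (Nat.prime_dvd_prime_iff_eq Nat.prime_three hp).1
        (Nat.prime_three.dvd_of_dvd_pow (show 3 ∣ p ^ e by omega))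
      omega
    · exfalso; rw [h] at he
      have h2 := (Nat.prime_dvd_prime_iff_eq Nat.prime_two hp).1
        (Nat.prime_two.dvd_of_dvd_pow (show 2 ∣ p ^ e by omega))
      have h7 := (Nat.prime_dvd_prime_iff_eq (by norm_num : Nat.Prime 7) hp).1
        ((by norm_num : Nat.Prime 7).dvd_of_dvd_pow (show 7 ∣ p ^ e by omega))
      omega
    · exfalso; rw [h] at he
      have h5' := (Nat.prime_dvd_prime_iff_eq Nat.prime_five hp).1
        (Nat.prime_five.dvd_of_dvd_pow (show 5 ∣ p ^ e by omega))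
      have h7 := (Nat.prime_dvd_prime_iff_eq (by norm_num : Nat.Prime 7) hp).1
        ((by norm_num : Nat.Prime 7).dvd_of_dvd_pow (show 7 ∣ p ^ e by omega))
      omega
    · refine ⟨h, ?_⟩
      rw [hsb', hs, h]
      norm_num
  by_contra hbig
  -- split off the `p`-part
  obtain ⟨b, w, hw, hc⟩ := Nat.exists_eq_pow_mul_and_not_dvd
    (n := 3 + j * s) (by omega) p hp.ne_one
  rw [hj] at hdvd
  have hwD : w ∣ (r + 2 + 1) ^ 2 * (r + 2 - 1) := by
    refine (Nat.Coprime.pow_right _ ?_).dvd_of_dvd_mul_left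
      ((Dvd.intro_left _ hc.symm).trans hdvd)
    rw [he]
    exact ((hp.coprime_iff_not_dvd.2 hw).symm).pow_right _
  obtain ⟨y, hy⟩ := hwD
  set P := p ^ b with hP
  -- the identity `i c = 3 P (q + 2 + j)`
  have hle : 3 + j * s ≤ 3 * P * (r + 2 + 2 + j) := by
    have hP0 : 0 < P := pow_pos hp.pos b
    have e1 : P * ((r + 2 + 2) * s) = (3 + j * s) * y + 3 * P := by
      rw [← hD, hy, hc]; ring
    have e2 : j * y < P * (r + 2 + 2) := by
      refine Nat.lt_of_mul_lt_mul_left (a := s) ?_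
      nlinarith
    obtain ⟨i, hi⟩ : ∃ i, P * (r + 2 + 2) = j * y + i := ⟨_, (Nat.add_sub_cancel' e2.le).symm⟩
    have hi1 : 1 ≤ i := by omega
    have e3 : i * s = 3 * (y + P) := by nlinarith
    have e4 : i * (3 + j * s) = 3 * P * (r + 2 + 2 + j) := by
      linear_combination (-3 : ℤ) * 0 + j * e3 - 3 * hi
    calc 3 + j * s ≤ i * (3 + j * s) := Nat.le_mul_of_pos_left _ hi1
      _ = _ := e4
  rcases lt_or_ge P (r + 2) with hPq | hPq
  · have hb : b ≤ e := ((Nat.pow_lt_pow_iff_right hp.one_lt).1 (he ▸ hPq)).le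
    have hPdvd : P ∣ 3 + j := by
      have h1 : P ∣ r + 2 := he ▸ pow_dvd_pow p hb
      have h2 : P ∣ (3 + j * s) + j * (r + 2) := dvd_add (hc ▸ Dvd.intro w rfl) (h1.mul_left j)
      have h3' : (3 + j * s) + j * (r + 2) = (3 + j) + j * (r + 2) ^ 2 := by
        rw [add_assoc, ← mul_add, hsq]; ring
      rw [h3'] at h2
      exact (Nat.dvd_add_left ((dvd_pow h1 two_ne_zero).mul_left j)).1 h2
    have h1 : P ≤ 4 * j := (Nat.le_of_dvd (by omega) hPdvd).trans (by omega)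
    have h2 : j * s ≤ j * (12 * (2 * (r + 2) + 3)) := by
      calc j * s ≤ 3 * P * (r + 2 + 2 + j) := by omega
        _ ≤ 3 * (4 * j) * (2 * (r + 2) + 3) := Nat.mul_le_mul (by omega) (by omega)
        _ = _ := by ring
    have h4 : s ≤ 12 * (2 * (r + 2) + 3) := Nat.le_of_mul_le_mul_left h2 hj1
    have h5 : 37 * r ≤ r * r := Nat.mul_le_mul_right r (by omega)
    rw [hs2, sq] at h4
    omega
  · have hqc : r + 2 ∣ 3 + j * s := by
      refine dvd_trans ?_ (hc ▸ Dvd.intro w rfl : P ∣ 3 + j * s)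
      rw [he, hP]
      exact pow_dvd_pow p ((Nat.pow_le_pow_iff_right hp.one_lt).1 (he ▸ hPq))
    have hq3 : r + 2 ∣ 3 + j := by
      have h2 : r + 2 ∣ (3 + j * s) + j * (r + 2) := dvd_add hqc ⟨j, mul_comm _ _⟩
      rw [add_assoc, ← mul_add, hsq, mul_add, mul_one, add_comm (j * _) j, ← add_assoc] at h2
      exact (Nat.dvd_add_left ((dvd_pow_self _ two_ne_zero).mul_left j)).1 h2
    obtain ⟨t, ht⟩ := hq3
    have ht1 : t = 1 := by
      rcases Nat.lt_or_ge t 2 with h | h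
      · interval_cases t <;> omega
      · have := Nat.mul_le_mul_left (r + 2) h
        omega
    rw [ht1, mul_one] at ht
    have hcr : 3 + j * s = (r + 2) * r ^ 2 := by
      have hjr : j + 1 = r := by omega
      rw [hs2, ← hjr]; ring
    rw [hcr] at hdvd
    have hr : r ∣ 36 := by
      have h1 : r ∣ (r + 2) ^ 2 * ((r + 2 + 1) ^ 2 * (r + 2 - 1)) := by
        have := Nat.dvd_of_mul_dvd_mul_left (by omega : 0 < r + 2)
          (show (r + 2) * r ^ 2 ∣ (r + 2) * ((r + 2) ^ 2 * ((r + 2 + 1) ^ 2 * (r + 2 - 1))) by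
            convert hdvd using 1; ring)
        exact (dvd_pow_self r two_ne_zero).trans this
      rw [show r + 2 - 1 = r + 1 by omega,
        show (r + 2) ^ 2 * ((r + 2 + 1) ^ 2 * (r + 1)) =
          36 + r * (r ^ 4 + 11 * r ^ 3 + 47 * r ^ 2 + 97 * r + 96) by ring] at h1
      exact (Nat.dvd_add_left (Dvd.intro _ rfl)).1 h1
    have := Nat.le_of_dvd (by norm_num) hr
    omega

end Cfsg.Agent.H36.SUThreeGeo.Singer
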