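import Cfsg.Agent.Unitary.AschAdjoint
import Cfsg.Agent.Unitary.AschField
import Cfsg.Agent.Unitary.Center
import Cfsg.Agent.H53.SUInvol

/-!
The Singer torus of `SU₃(q)` attached to an adjoint-closed cubic field of matrices, and its normaliser.
-/

set_option autoImplicit false
set_option linter.unusedSectionVars false
set_option linter.style.haveILetI false

namespace Cfsg.Agent.H36.SUThreeGeo.Singer

open Cfsg Cfsg.Agent Cfsg.Agent.Unitary Matrix
open scoped MatrixGroups

variable {F : Type*} [Field F] [Fintype F] {q : ℕ}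

/-- `SU₃(q)` inside `GL₃(q²)`. -/
def toGL3 (F : Type*) [Field F] (q : ℕ) : Cfsg.SU 3 F q →* GL (Fin 3) F :=
  (Matrix.SpecialLinearGroup.toGL).comp (Cfsg.SU 3 F q).subtype

theorem toGL3_val (g : Cfsg.SU 3 F q) :
    (toGL3 F q g : Matrix (Fin 3) (Fin 3) F) =
      ((g : Matrix.SpecialLinearGroup (Fin 3) F) : Matrix (Fin 3) (Fin 3) F) := rfl

theorem det_toGL3 (g : Cfsg.SU 3 F q) : (toGL3 F q g : Matrix (Fin 3) (Fin 3) F).det = 1 := by
  rw [toGL3_val]; exact (g : Matrix.SpecialLinearGroup (Fin 3) F).2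

theorem toGL3_injective : Function.Injective (toGL3 F q) := fun a b h =>
  Subtype.ext (Subtype.ext (congrArg (fun x : GL (Fin 3) F => (x : Matrix (Fin 3) (Fin 3) F)) h))

/-- The elements of `SU₃(q)` lying in the algebra. -/
def tor (q : ℕ) (K : Subalgebra F (Matrix (Fin 3) (Fin 3) F)) : Subgroup (Cfsg.SU 3 F q) where
  carrier := {g | (toGL3 F q g : Matrix (Fin 3) (Fin 3) F) ∈ K}
  mul_mem' {a b} ha hb := by
    show (toGL3 F q (a * b) : Matrix (Fin 3) (Fin 3) F) ∈ K
    rw [map_mul, Units.val_mul]; exact K.mul_mem ha hb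
  one_mem' := by
    show (toGL3 F q 1 : Matrix (Fin 3) (Fin 3) F) ∈ K
    rw [map_one, Units.val_one]; exact K.one_mem
  inv_mem' {a} ha := by
    show (toGL3 F q a⁻¹ : Matrix (Fin 3) (Fin 3) F) ∈ K
    have h : a⁻¹ ∈ Submonoid.powers a :=
      ((isOfFinOrder_of_finite a).mem_powers_iff_mem_zpowers).2 (Subgroup.inv_mem _ (Subgroup.mem_zpowers a))
    obtain ⟨n, hn : a ^ n = a⁻¹⟩ := h
    rw [← hn, map_pow, Units.val_pow_eq_pow_val]
    exact pow_mem ha n

theorem mem_tor {K : Subalgebra F (Matrix (Fin 3) (Fin 3) F)} {g : Cfsg.SU 3 F q} :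
    g ∈ tor q K ↔ (toGL3 F q g : Matrix (Fin 3) (Fin 3) F) ∈ K := Iff.rfl

/-- The normaliser of the algebra in `SU₃(q)`. -/
def nor (q : ℕ) (K : Subalgebra F (Matrix (Fin 3) (Fin 3) F)) : Subgroup (Cfsg.SU 3 F q) :=
  (Geo.subalgebraNormalizer K).comap (toGL3 F q)

variable (hF : Fintype.card F = q ^ 2) {K : Subalgebra F (Matrix (Fin 3) (Fin 3) F)}
  (hK : Geo.IsFieldSubalgebra 3 K) (hac : Geo.IsAdjointClosedFor (Cfsg.hermForm 3 F q) K)

include hK in
theorem tor_le_nor : tor q K ≤ nor q K := by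
  intro g hg
  refine Aschbacher.mem_subalgebraNormalizer (fun X hX => ?_) fun X hX => ?_
  · show (toGL3 F q g : Matrix (Fin 3) (Fin 3) F) * X *
      (((toGL3 F q g)⁻¹ : GL (Fin 3) F) : Matrix (Fin 3) (Fin 3) F) ∈ K
    rw [hK.comm _ hg _ hX, mul_assoc, ← Units.val_mul, mul_inv_cancel, Units.val_one, mul_one]
    exact hX
  · have hg' := (tor q K).inv_mem hg
    rw [mem_tor, map_inv] at hg'
    show (((toGL3 F q g)⁻¹ : GL (Fin 3) F) : Matrix (Fin 3) (Fin 3) F) * X *
      ((((toGL3 F q g)⁻¹)⁻¹ : GL (Fin 3) F) : Matrix (Fin 3) (Fin 3) F) ∈ K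
    rw [hK.comm _ hg' _ hX, mul_assoc, ← Units.val_mul, mul_inv_cancel, Units.val_one, mul_one]
    exact hX

include hF in
theorem center_le_tor : Subgroup.center (Cfsg.SU 3 F q) ≤ tor q K := by
  intro z hz
  obtain ⟨l, hl⟩ := eq_smul_of_mem_center hF (by norm_num) hz
  rw [mem_tor]
  have : (toGL3 F q z : Matrix (Fin 3) (Fin 3) F) = algebraMap F (Matrix (Fin 3) (Fin 3) F) l := by
    refine Matrix.toLin'.injective (LinearMap.ext fun x => ?_)
    rw [Matrix.toLin'_apply, Matrix.toLin'_apply, Algebra.algebraMap_eq_smul_one, Matrix.smul_mulVec,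
      Matrix.one_mulVec]
    exact hl x
  rw [this]
  exact K.algebraMap_mem l

include hK in
/-- A matrix commuting with the field is in the field. -/
theorem mem_of_commute {X : Matrix (Fin 3) (Fin 3) F} (hX : ∀ k ∈ K, X * k = k * X) : X ∈ K := by
  letI := (Aschbacher.isField_of_isFieldSubalgebra hK).toField
  haveI : FiniteDimensional F K := Module.finite_of_finrank_pos (by rw [hK.finrank_eq]; norm_num)
  set v : Fin 3 → F := Pi.single 0 1
  have hv : v ≠ 0 := by simp [v]
  let ev : K →ₗ[F] (Fin 3 → F) :=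
    ((Matrix.mulVecBilin F F).flip v).comp (Subalgebra.val K).toLinearMap
  have hinj : Function.Injective ev := by
    rw [← LinearMap.ker_eq_bot, eq_bot_iff]
    intro k hk
    rw [Submodule.mem_bot]
    by_contra hne
    have h0 : (k : Matrix (Fin 3) (Fin 3) F) *ᵥ v = 0 := hk
    obtain ⟨y, hy, hky⟩ := hK.inv k k.2 fun h => hne (Subtype.ext h)
    refine hv ?_
    rw [← Matrix.one_mulVec v, ← hky, hK.comm k k.2 y hy, ← Matrix.mulVec_mulVec, h0,
      Matrix.mulVec_zero]
  let E : K ≃ₗ[F] (Fin 3 → F) := LinearEquiv.ofInjectiveOfFinrankEq ev hinj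
    (by rw [hK.finrank_eq, Module.finrank_fin_fun])
  obtain ⟨k, hk⟩ := E.surjective (X *ᵥ v)
  have : X = k := by
    refine Matrix.toLin'.injective (LinearMap.ext fun x => ?_)
    obtain ⟨l, rfl⟩ := E.surjective x
    rw [Matrix.toLin'_apply, Matrix.toLin'_apply]
    show X *ᵥ ((l : Matrix (Fin 3) (Fin 3) F) *ᵥ v) = (k : Matrix (Fin 3) (Fin 3) F) *ᵥ
      ((l : Matrix (Fin 3) (Fin 3) F) *ᵥ v)
    rw [Matrix.mulVec_mulVec, hX _ l.2, ← Matrix.mulVec_mulVec, ← hk]
    show (l : Matrix (Fin 3) (Fin 3) F) *ᵥ ((k : Matrix (Fin 3) (Fin 3) F) *ᵥ v) = _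
    rw [Matrix.mulVec_mulVec, Matrix.mulVec_mulVec, hK.comm _ l.2 _ k.2]
  exact this ▸ k.2

section field

include hF hK

/-- The elements of `K` fixed by the Frobenius of `F` are scalars. -/
theorem mem_range_of_pow {x : Matrix (Fin 3) (Fin 3) F} (hx : x ∈ K) (h : x ^ (q ^ 2) = x) :
    ∃ c : F, x = algebraMap F (Matrix (Fin 3) (Fin 3) F) c := by
  letI := (Aschbacher.isField_of_isFieldSubalgebra hK).toField
  haveI : FiniteDimensional F K := Module.finite_of_finrank_pos (by rw [hK.finrank_eq]; norm_num)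
  haveI : Finite K := Module.finite_of_finite F
  haveI : Fintype K := Fintype.ofFinite K
  haveI := Subalgebra.isSimpleOrder_of_finrank_prime F K (by rw [hK.finrank_eq]; exact Nat.prime_three)
  set y : K := ⟨x, hx⟩
  rcases eq_bot_or_eq_top (Algebra.adjoin F {y}) with hy | hy
  · have : y ∈ (⊥ : Subalgebra F K) := hy ▸ Algebra.self_mem_adjoin_singleton F y
    obtain ⟨c, hc⟩ := Algebra.mem_bot.1 this
    exact ⟨c, (congrArg Subtype.val hc).symm⟩
  exfalso
  set φ := FiniteField.frobeniusAlgEquivOfAlgebraic F K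
  have hφy : φ y = y := Subtype.ext (by
    rw [FiniteField.coe_frobeniusAlgEquivOfAlgebraic, hF, SubmonoidClass.coe_pow]; exact h)
  have hall : ∀ z : K, φ z = z := fun z => by
    have hz : z ∈ Algebra.adjoin F {y} := hy ▸ Algebra.mem_top
    exact (Algebra.adjoin_le (S := AlgHom.equalizer φ.toAlgHom (AlgHom.id F K))
      (Set.singleton_subset_iff.2 hφy) hz : _)
  obtain ⟨g, hg⟩ := IsCyclic.exists_generator (α := Kˣ)
  have h1 := hall (g : K)
  rw [FiniteField.coe_frobeniusAlgEquivOfAlgebraic, hF] at h1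
  change (g : K) ^ q ^ 2 = g at h1
  have hq := Unitary.two_le_q hF
  have h4 : 4 ≤ q ^ 2 := by nlinarith
  have h2 : g ^ (q ^ 2 - 1) = 1 := by
    refine mul_right_cancel (b := g) (Units.ext ?_)
    rw [one_mul, ← pow_succ, Nat.sub_add_cancel (by omega), Units.val_pow_eq_pow_val, h1]
  have h3 := Nat.le_of_dvd (by omega) (orderOf_dvd_of_pow_eq_one h2)
  rw [orderOf_eq_card_of_forall_mem_zpowers hg, Nat.card_units, Nat.card_eq_fintype_card,
    Module.card_eq_pow_finrank (K := F) (V := K), hK.finrank_eq, hF] at h3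
  have h5 : q ^ 2 * 4 ≤ (q ^ 2) ^ 3 := by
    calc q ^ 2 * 4 ≤ q ^ 2 * (q ^ 2) ^ 2 := Nat.mul_le_mul_left _ (by nlinarith)
      _ = _ := by ring
  omega

include hac

/-- The torus has order `q² - q + 1`. -/
theorem card_tor : Nat.card (tor q K) = q ^ 2 - q + 1 := by
  classical
  letI := (Aschbacher.isField_of_isFieldSubalgebra hK).toField
  haveI : FiniteDimensional F K := Module.finite_of_finrank_pos (by rw [hK.finrank_eq]; norm_num)
  haveI : Finite K := Module.finite_of_finite F
  haveI : Fintype K := Fintype.ofFinite K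
  have hKc : Fintype.card K = (q ^ 3) ^ 2 := by
    rw [Module.card_eq_pow_finrank (K := F) (V := K), hK.finrank_eq, hF]
    ring
  have hst_mem : ∀ k ∈ K, Unitary.Asch.hst q k ∈ K := fun X hX => by
    obtain ⟨Y, hY, hXY⟩ := hac X hX
    have : Unitary.Asch.hst q X = Y := Unitary.Asch.matrix_ext_herm hF fun u v => by
      rw [← Unitary.Asch.herm_mulVec_left hF, hXY]
    exact this ▸ hY
  -- the adjoint is the power `q³`
  have hadj : ∀ k : K, Unitary.Asch.hst q (k : Matrix (Fin 3) (Fin 3) F) =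
      ((k ^ q ^ 3 : K) : Matrix (Fin 3) (Fin 3) F) := by
    let τ : K ≃+* K :=
      { toFun := fun x => ⟨Unitary.Asch.hst q (x : Matrix (Fin 3) (Fin 3) F), hst_mem _ x.2⟩
        invFun := fun x => ⟨Unitary.Asch.hst q (x : Matrix (Fin 3) (Fin 3) F), hst_mem _ x.2⟩
        left_inv := fun x => Subtype.ext (Unitary.Asch.hst_hst hF _)
        right_inv := fun x => Subtype.ext (Unitary.Asch.hst_hst hF _)
        map_mul' := fun x y => Subtype.ext (by
          show Unitary.Asch.hst q ((x : Matrix (Fin 3) (Fin 3) F) * (y : Matrix (Fin 3) (Fin 3) F)) =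
            Unitary.Asch.hst q (x : Matrix (Fin 3) (Fin 3) F) *
              Unitary.Asch.hst q (y : Matrix (Fin 3) (Fin 3) F)
          rw [Unitary.Asch.hst_mul hF]
          exact hK.comm _ (hst_mem _ y.2) _ (hst_mem _ x.2))
        map_add' := fun x y => Subtype.ext (Unitary.Asch.hst_add hF _ _) }
    have hτF : ∀ a : F, τ (algebraMap F K a) = algebraMap F K (a ^ q) := fun a => Subtype.ext (by
      show Unitary.Asch.hst q (algebraMap F (Matrix (Fin 3) (Fin 3) F) a) = algebraMap F _ (a ^ q)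
      rw [Algebra.algebraMap_eq_smul_one, Unitary.Asch.hst_smul_one hF,
        ← Algebra.algebraMap_eq_smul_one])
    set κ := Unitary.frob hKc
    have hκF : ∀ a : F, κ (algebraMap F K a) = algebraMap F K (a ^ q) := fun a => by
      rw [Unitary.frob_apply, ← map_pow, show q ^ 3 = q ^ 2 * q by ring, pow_mul a (q ^ 2), ← hF,
        FiniteField.pow_card]
    let α : K ≃ₐ[F] K := AlgEquiv.ofRingEquiv (f := κ.trans τ) fun c => by
      rw [RingEquiv.trans_apply, hκF, hτF, Unitary.pow_q_q hF]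
    have hκκ : ∀ k : K, κ (κ k) = k := fun k => by
      rw [Unitary.frob_apply, Unitary.frob_apply, Unitary.pow_q_q hKc]
    have hττ : ∀ k : K, τ (τ k) = k := fun k => Subtype.ext (Unitary.Asch.hst_hst hF _)
    have hcomm : ∀ k : K, τ (κ k) = κ (τ k) := fun k => by
      rw [Unitary.frob_apply, Unitary.frob_apply, map_pow]
    have h2 : α ^ 2 = 1 := AlgEquiv.ext fun k => by
      show τ (κ (τ (κ k))) = k
      rw [hcomm, hττ, hκκ]
    have hα : α = 1 := by
      rw [← orderOf_eq_one_iff]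
      have h4 : orderOf α ∣ 3 := by
        have := orderOf_dvd_natCard α
        rwa [IsGalois.card_aut_eq_finrank, hK.finrank_eq] at this
      exact Nat.dvd_one.1 (by simpa using Nat.dvd_gcd (orderOf_dvd_of_pow_eq_one h2) h4)
    intro k
    have := AlgEquiv.congr_fun hα (κ k)
    rw [AlgEquiv.one_apply, show α (κ k) = τ (κ (κ k)) from rfl, hκκ] at this
    rw [← Unitary.frob_apply hKc k]
    exact congrArg Subtype.val this
  -- the determinant is the norm
  have hdet : ∀ k : K, (k : Matrix (Fin 3) (Fin 3) F).det = Algebra.norm F k := by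
    intro k
    set v : Fin 3 → F := Pi.single 0 1
    let ev : K →ₗ[F] (Fin 3 → F) :=
      ((Matrix.mulVecBilin F F).flip v).comp (Subalgebra.val K).toLinearMap
    have hinj : Function.Injective ev := by
      rw [← LinearMap.ker_eq_bot, eq_bot_iff]
      intro x hx
      rw [Submodule.mem_bot]
      by_contra hne
      have h0 : (x : Matrix (Fin 3) (Fin 3) F) *ᵥ v = 0 := hx
      obtain ⟨y, hy, hky⟩ := hK.inv x x.2 fun h => hne (Subtype.ext h)
      refine (show v ≠ 0 by simp [v]) ?_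
      rw [← Matrix.one_mulVec v, ← hky, hK.comm x x.2 y hy, ← Matrix.mulVec_mulVec, h0,
        Matrix.mulVec_zero]
    let E : K ≃ₗ[F] (Fin 3 → F) := LinearEquiv.ofInjectiveOfFinrankEq ev hinj
      (by rw [hK.finrank_eq, Module.finrank_fin_fun])
    rw [← LinearMap.det_toLin', Algebra.norm_apply,
      ← LinearMap.det_conj (Algebra.lmul F K k) E]
    congr 1
    refine LinearMap.ext fun x => ?_
    obtain ⟨l, rfl⟩ := E.surjective x
    simp only [LinearMap.comp_apply, LinearEquiv.coe_coe, LinearEquiv.symm_apply_apply,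
      Matrix.toLin'_apply]
    show (k : Matrix (Fin 3) (Fin 3) F) *ᵥ ((l : Matrix (Fin 3) (Fin 3) F) *ᵥ v) =
      ((k * l : K) : Matrix (Fin 3) (Fin 3) F) *ᵥ v
    rw [Matrix.mulVec_mulVec]; rfl
  -- the subgroup of the units
  have hnorm : ∀ k : K, (k : Matrix (Fin 3) (Fin 3) F).det = 1 ↔ k ^ (q ^ 4 + q ^ 2 + 1) = 1 := by
    intro k
    rw [hdet, ← (algebraMap F K).injective.eq_iff, map_one, FiniteField.algebraMap_norm_eq_pow_sum,
      Nat.card_eq_fintype_card, hF, hK.finrank_eq]
    rw [show ∑ i ∈ Finset.range 3, (q ^ 2) ^ i = q ^ 4 + q ^ 2 + 1 by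
      simp [Finset.sum_range_succ]; ring]
  have e : tor q K ≃ {u : Kˣ // u ^ (q ^ 3 + 1) = 1 ∧ u ^ (q ^ 4 + q ^ 2 + 1) = 1} :=
    { toFun := fun g => ⟨Units.mk0 (⟨_, g.2⟩ : K) (fun h => by
          have h1 := congrArg Subtype.val h
          have h2 : (toGL3 F q g.1 : Matrix (Fin 3) (Fin 3) F) = 0 := h1
          exact not_isUnit_zero (h2 ▸ (toGL3 F q g.1).isUnit)), by
        refine Units.ext ?_
        rw [Units.val_pow_eq_pow_val, Units.val_mk0, Units.val_one, pow_succ]
        refine Subtype.ext ?_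
        rw [MulMemClass.coe_mul, ← hadj]
        exact (Unitary.Asch.mem_GU_iff_hst hF).1 (g.1.2 : toGL3 F q g.1 ∈ Cfsg.GU 3 F q), by
        refine Units.ext ?_
        rw [Units.val_pow_eq_pow_val, Units.val_mk0, Units.val_one, ← hnorm]
        exact det_toGL3 _⟩
      invFun := fun u => ⟨⟨⟨((u.1 : K) : Matrix (Fin 3) (Fin 3) F), (hnorm _).2 (by
          rw [← Units.val_pow_eq_pow_val, u.2.2, Units.val_one])⟩, by
          have h : IsUnit ((u.1 : K) : Matrix (Fin 3) (Fin 3) F) := u.1.isUnit.map K.val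
          have h1 : h.unit ∈ Cfsg.GU 3 F q := by
            rw [Unitary.Asch.mem_GU_iff_hst hF, IsUnit.unit_spec, hadj, ← MulMemClass.coe_mul,
              ← pow_succ, ← Units.val_pow_eq_pow_val, u.2.1, Units.val_one, OneMemClass.coe_one]
          exact h1⟩, (u.1 : K).2⟩
      left_inv := fun g => Subtype.ext (Subtype.ext (Subtype.ext rfl))
      right_inv := fun u => Subtype.ext (Units.ext rfl) }
  rw [Nat.card_congr e]
  have hq := Unitary.two_le_q hF
  set s := q ^ 2 - q + 1 with hs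
  have hsq : s + q = q ^ 2 + 1 := by
    have : q ≤ q ^ 2 := by nlinarith
    omega
  have hgcd : Nat.gcd (q ^ 3 + 1) (q ^ 4 + q ^ 2 + 1) = s := by
    have e1 : q ^ 3 + 1 = s * (q + 1) := by
      have := congrArg (· * (q + 1)) hsq
      simp only [add_mul] at this
      nlinarith
    have e2 : q ^ 4 + q ^ 2 + 1 = s * (q ^ 2 + q + 1) := by
      have := congrArg (· * (q ^ 2 + q + 1)) hsq
      simp only [add_mul] at this
      nlinarith
    rw [e1, e2, Nat.gcd_mul_left, show q ^ 2 + q + 1 = 1 + q * (q + 1) by ring,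
      Nat.gcd_add_mul_right_right, Nat.gcd_one_right, mul_one]
  rw [Nat.card_congr (Equiv.subtypeEquivRight fun u : Kˣ => (pow_gcd_eq_one (a := u)).symm), hgcd]
  have := IsCyclic.card_powMonoidHom_ker (G := Kˣ) (d := s)
  rw [Nat.card_units, Nat.card_eq_fintype_card (α := K), hKc] at this
  rw [show Nat.card {u : Kˣ // u ^ s = 1} = _ from this]
  refine Nat.gcd_eq_right ?_
  refine Nat.dvd_trans ⟨q + 1, ?_⟩ (?_ : q ^ 3 + 1 ∣ (q ^ 3) ^ 2 - 1)
  · have := congrArg (· * (q + 1)) hsq
    simp only [add_mul] at this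
    nlinarith
  · exact ⟨q ^ 3 - 1, by simpa using Nat.sq_sub_sq (q ^ 3) 1⟩

/-- Elements of the torus of order dividing three are central. -/
theorem mem_center_of_cube {t : Cfsg.SU 3 F q} (ht : t ∈ tor q K) (h3 : t ^ 3 = 1) :
    t ∈ Subgroup.center (Cfsg.SU 3 F q) := by
  by_cases hs : 3 ∣ q ^ 2 - q + 1
  · have hdvd : 3 ∣ q ^ 2 - 1 := by
      have h2 : q % 3 = 2 := by
        have hq : q ≤ q ^ 2 := Nat.le_self_pow two_ne_zero q
        have hm := Nat.mod_lt q (show 0 < 3 by norm_num)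
        have : (q ^ 2 - q + 1) % 3 = 0 := Nat.mod_eq_zero_of_dvd hs
        have hh : q ^ 2 % 3 = (q % 3) * (q % 3) % 3 := by rw [sq, Nat.mul_mod]
        interval_cases hqm : q % 3 <;> omega
      have hh : q ^ 2 % 3 = 1 := by rw [sq, Nat.mul_mod, h2]
      have : 1 ≤ q ^ 2 := by
        have := Unitary.two_le_q hF
        nlinarith
      omega
    obtain ⟨c, hc⟩ := hdvd
    have hx : (toGL3 F q t : Matrix (Fin 3) (Fin 3) F) ^ (q ^ 2) =
        (toGL3 F q t : Matrix (Fin 3) (Fin 3) F) := by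
      rw [← Units.val_pow_eq_pow_val, ← map_pow,
        show q ^ 2 = 3 * c + 1 by have : 1 ≤ q ^ 2 := Nat.one_le_pow _ _ (Unitary.q_pos hF); omega,
        pow_succ, pow_mul, h3, one_pow, one_mul]
    obtain ⟨l, hl⟩ := mem_range_of_pow hF hK ht hx
    refine smul_mem_center (l := l) fun x => ?_
    show (toGL3 F q t : Matrix (Fin 3) (Fin 3) F) *ᵥ x = l • x
    rw [hl, Algebra.algebraMap_eq_smul_one, Matrix.smul_mulVec, Matrix.one_mulVec]
  · have h1 : (⟨t, ht⟩ : tor q K) ^ Nat.card (tor q K) = 1 := pow_card_eq_one'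
    rw [card_tor hF hK hac] at h1
    have h2 : t ^ (q ^ 2 - q + 1) = 1 := congrArg Subtype.val h1
    have : t = 1 := by
      have := pow_gcd_eq_one.2 ⟨h3, h2⟩
      rwa [(Nat.prime_three.coprime_iff_not_dvd.2 hs).gcd_eq_one, pow_one] at this
    rw [this]
    exact one_mem _

end field

include hK in
/-- Conjugation by the normaliser, as automorphisms of the field. -/
theorem exists_aut_hom : ∃ ψ : nor q K →* (K ≃ₐ[F] K),
    (∀ (g : nor q K) (k : K), ((ψ g k : K) : Matrix (Fin 3) (Fin 3) F) =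
      (toGL3 F q g : Matrix (Fin 3) (Fin 3) F) * k *
        (((toGL3 F q g)⁻¹ : GL (Fin 3) F) : Matrix (Fin 3) (Fin 3) F)) ∧
    ψ.ker = (tor q K).subgroupOf (nor q K) := by
  let f : nor q K → K → K := fun g k =>
    ⟨(toGL3 F q g : Matrix (Fin 3) (Fin 3) F) * k *
      (((toGL3 F q g)⁻¹ : GL (Fin 3) F) : Matrix (Fin 3) (Fin 3) F), ((Subgroup.mem_comap.1 g.2) _).1 k.2⟩
  have hf : ∀ g h k, f (g * h) k = f g (f h k) := fun g h k => Subtype.ext (by
    simp only [f, Subgroup.coe_mul, map_mul, _root_.mul_inv_rev, Units.val_mul, mul_assoc])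
  have hf1 : ∀ k, f 1 k = k := fun k => Subtype.ext (by simp [f])
  let a : nor q K → (K ≃ₐ[F] K) := fun g =>
    { toFun := f g
      invFun := f g⁻¹
      left_inv := fun k => by rw [← hf, inv_mul_cancel, hf1]
      right_inv := fun k => by rw [← hf, mul_inv_cancel, hf1]
      map_mul' := fun x y => Subtype.ext (by
        simp only [f, MulMemClass.coe_mul, mul_assoc]
        rw [← mul_assoc (((toGL3 F q g)⁻¹ : GL (Fin 3) F) : Matrix (Fin 3) (Fin 3) F),
          ← Units.val_mul, inv_mul_cancel, Units.val_one, one_mul])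
      map_add' := fun x y => Subtype.ext (by simp [f, mul_add, add_mul])
      commutes' := fun c => Subtype.ext (by
        simp only [f, Subalgebra.coe_algebraMap]
        rw [← Algebra.commutes, mul_assoc, ← Units.val_mul, mul_inv_cancel, Units.val_one, mul_one]) }
  refine ⟨{ toFun := a
            map_one' := AlgEquiv.ext hf1
            map_mul' := fun g h => AlgEquiv.ext (hf g h) }, fun g k => rfl, ?_⟩
  ext g
  rw [MonoidHom.mem_ker, Subgroup.mem_subgroupOf, mem_tor]
  refine ⟨fun h => mem_of_commute hK fun k hk => ?_, fun h => AlgEquiv.ext fun k => Subtype.ext ?_⟩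
  · have h1 := congrArg Subtype.val (AlgEquiv.congr_fun h (⟨k, hk⟩ : K))
    have h2 : (toGL3 F q g : Matrix (Fin 3) (Fin 3) F) * k *
        (((toGL3 F q g)⁻¹ : GL (Fin 3) F) : Matrix (Fin 3) (Fin 3) F) = k := h1
    conv_rhs => rw [← h2]
    rw [mul_assoc _ _ ((toGL3 F q g : GL (Fin 3) F) : Matrix (Fin 3) (Fin 3) F), ← Units.val_mul,
      inv_mul_cancel, Units.val_one, mul_one]
  · show (toGL3 F q g : Matrix (Fin 3) (Fin 3) F) * k *
      (((toGL3 F q g)⁻¹ : GL (Fin 3) F) : Matrix (Fin 3) (Fin 3) F) = k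
    rw [hK.comm _ h _ k.2, mul_assoc, ← Units.val_mul, mul_inv_cancel, Units.val_one, mul_one]

include hF hK hac

/-- The normaliser is at most three times the torus. -/
theorem exists_card_nor : ∃ e ≤ 3, Nat.card (nor q K) = e * (q ^ 2 - q + 1) := by
  letI := (Aschbacher.isField_of_isFieldSubalgebra hK).toField
  haveI : FiniteDimensional F K := Module.finite_of_finrank_pos (by rw [hK.finrank_eq]; norm_num)
  haveI : Finite K := Module.finite_of_finite F
  obtain ⟨ψ, -, hker⟩ := exists_aut_hom hK (q := q)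
  refine ⟨ψ.ker.index, ?_, ?_⟩
  · rw [Subgroup.index_ker]
    calc Nat.card ψ.range ≤ Nat.card (K ≃ₐ[F] K) := Subgroup.card_le_card_group _
      _ = 3 := by rw [IsGalois.card_aut_eq_finrank, hK.finrank_eq]
  · rw [← card_tor hF hK hac, ← ψ.ker.index_mul_card, hker]
    congr 1
    exact Nat.card_congr (Subgroup.subgroupOfEquivOfLe (tor_le_nor hK)).toEquiv

/-- The torus is a trivial intersection subgroup modulo the centre. -/
theorem tor_ti {g t : Cfsg.SU 3 F q} (hg : g ∉ nor q K) (ht : t ∈ tor q K)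
    (h : g⁻¹ * t * g ∈ nor q K) : t ∈ Subgroup.center (Cfsg.SU 3 F q) := by
  letI := (Aschbacher.isField_of_isFieldSubalgebra hK).toField
  haveI : FiniteDimensional F K := Module.finite_of_finrank_pos (by rw [hK.finrank_eq]; norm_num)
  haveI : Finite K := Module.finite_of_finite F
  haveI := Subalgebra.isSimpleOrder_of_finrank_prime F K (by rw [hK.finrank_eq]; exact Nat.prime_three)
  obtain ⟨ψ, hψ, hker⟩ := exists_aut_hom hK (q := q)
  refine mem_center_of_cube hF hK hac ht ?_
  by_contra h3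
  by_cases hy : g⁻¹ * t * g ∈ tor q K
  · -- `g` carries `K` to itself
    set x : K := ⟨_, ht⟩
    rcases eq_bot_or_eq_top (Algebra.adjoin F {x}) with hb | hb
    · have : x ∈ (⊥ : Subalgebra F K) := hb ▸ Algebra.self_mem_adjoin_singleton F x
      obtain ⟨c, hc⟩ := Algebra.mem_bot.1 this
      have hval : (toGL3 F q t : Matrix (Fin 3) (Fin 3) F) = algebraMap F _ c :=
        (congrArg Subtype.val hc).symm
      have hdet : (toGL3 F q t : Matrix (Fin 3) (Fin 3) F).det = 1 := det_toGL3 _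
      rw [hval, Algebra.algebraMap_eq_smul_one, Matrix.det_smul, Matrix.det_one, mul_one,
        Fintype.card_fin] at hdet
      refine h3 (toGL3_injective (Units.ext ?_))
      rw [map_pow, map_one, Units.val_pow_eq_pow_val, hval, ← map_pow, hdet, map_one, Units.val_one]
    · refine hg ?_
      set A := (toGL3 F q g : Matrix (Fin 3) (Fin 3) F)
      set A' := (((toGL3 F q g)⁻¹ : GL (Fin 3) F) : Matrix (Fin 3) (Fin 3) F)
      have hAA : A * A' = 1 := by rw [← Units.val_mul, mul_inv_cancel, Units.val_one]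
      have hAA' : A' * A = 1 := by rw [← Units.val_mul, inv_mul_cancel, Units.val_one]
      let c : K →ₐ[F] Matrix (Fin 3) (Fin 3) F :=
        { toFun := fun k => A' * k * A
          map_one' := by simp [hAA']
          map_mul' := fun k l => by
            simp only [MulMemClass.coe_mul, mul_assoc]
            rw [← mul_assoc A A', hAA, one_mul]
          map_zero' := by simp
          map_add' := fun k l => by simp [mul_add, add_mul]
          commutes' := fun r => by
            simp only [Subalgebra.coe_algebraMap]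
            rw [← Algebra.commutes, mul_assoc, hAA', mul_one] }
      have hcK : ∀ k : K, A' * k * A ∈ K := fun k => by
        have hk : k ∈ Algebra.adjoin F {x} := hb ▸ Algebra.mem_top
        refine (Algebra.adjoin_le (S := K.comap c) (Set.singleton_subset_iff.2 ?_) hk : _)
        show A' * (toGL3 F q t : Matrix (Fin 3) (Fin 3) F) * A ∈ K
        rw [mem_tor, map_mul, map_mul, map_inv, Units.val_mul, Units.val_mul] at hy
        exact hy
      let cL : K →ₗ[F] K := c.toLinearMap.codRestrict K.toSubmodule fun k => hcK k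
      have hinj : Function.Injective cL := fun a b hab => by
        have h1 : A' * a * A = A' * b * A := congrArg Subtype.val hab
        have h2 := congrArg (fun X => A * X * A') h1
        simp only [← mul_assoc, hAA, one_mul] at h2
        rw [mul_assoc, mul_assoc, hAA, mul_one, mul_one] at h2
        exact Subtype.ext h2
      refine Aschbacher.mem_subalgebraNormalizer (fun X hX => ?_) fun X hX => ?_
      · obtain ⟨k, hk⟩ := (LinearMap.injective_iff_surjective.1 hinj) ⟨X, hX⟩
        have h1 : A' * k * A = X := congrArg Subtype.val hk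
        show A * X * A' ∈ K
        rw [← h1, ← mul_assoc, ← mul_assoc, hAA, one_mul, mul_assoc, hAA, mul_one]
        exact k.2
      · show A' * X * ((((toGL3 F q g)⁻¹)⁻¹ : GL (Fin 3) F) : Matrix (Fin 3) (Fin 3) F) ∈ K
        rw [inv_inv]
        exact hcK ⟨X, hX⟩
  · -- the conjugate induces an automorphism of order three
    set y := g⁻¹ * t * g
    set α := ψ ⟨y, h⟩
    have hα : α ≠ 1 := fun e => hy (by
      have : (⟨y, h⟩ : nor q K) ∈ ψ.ker := e
      rwa [hker, Subgroup.mem_subgroupOf] at this)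
    have hα3 : α ^ 3 = 1 := by
      have := pow_card_eq_one' (G := K ≃ₐ[F] K) (x := α)
      rwa [IsGalois.card_aut_eq_finrank, hK.finrank_eq] at this
    have hy3 : y ^ 3 ∈ tor q K := by
      have : (⟨y, h⟩ : nor q K) ^ 3 ∈ ψ.ker := by rw [MonoidHom.mem_ker, map_pow]; exact hα3
      rwa [hker, Subgroup.mem_subgroupOf] at this
    have hfix : α ⟨_, hy3⟩ = ⟨_, hy3⟩ := Subtype.ext (by
      rw [hψ]
      show (toGL3 F q y : Matrix (Fin 3) (Fin 3) F) * (toGL3 F q (y ^ 3) : Matrix (Fin 3) (Fin 3) F) *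
        (((toGL3 F q y)⁻¹ : GL (Fin 3) F) : Matrix (Fin 3) (Fin 3) F) = _
      rw [← Units.val_mul, ← Units.val_mul, ← map_inv, ← map_mul, ← map_mul]
      congr 2
      group)
    obtain ⟨c, hc⟩ : ∃ c : F, (toGL3 F q (y ^ 3) : Matrix (Fin 3) (Fin 3) F) = algebraMap F _ c := by
      rcases eq_bot_or_eq_top (AlgHom.equalizer α.toAlgHom (AlgHom.id F K)) with hb | hb
      · have : (⟨_, hy3⟩ : K) ∈ (⊥ : Subalgebra F K) := hb ▸ hfix
        obtain ⟨c, hc⟩ := Algebra.mem_bot.1 this
        exact ⟨c, (congrArg Subtype.val hc).symm⟩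
      · refine absurd (AlgEquiv.ext fun k => ?_) hα
        have hk : k ∈ AlgHom.equalizer α.toAlgHom (AlgHom.id F K) := hb ▸ Algebra.mem_top
        exact hk
    have hdet : (toGL3 F q (y ^ 3) : Matrix (Fin 3) (Fin 3) F).det = 1 :=
      det_toGL3 _
    rw [hc, Algebra.algebraMap_eq_smul_one, Matrix.det_smul, Matrix.det_one, mul_one,
      Fintype.card_fin] at hdet
    have hy9 : y ^ 9 = 1 := by
      refine toGL3_injective (Units.ext ?_)
      rw [show (9 : ℕ) = 3 * 3 from rfl, pow_mul, map_pow, map_one, Units.val_pow_eq_pow_val, hc,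
        ← map_pow, hdet, map_one, Units.val_one]
    have ht9 : t ^ 9 = 1 := by
      have : y ^ 9 = g⁻¹ * t ^ 9 * g := by
        simp only [y]
        rw [show g⁻¹ * t * g = g⁻¹ * t * (g⁻¹)⁻¹ by rw [inv_inv], conj_pow, inv_inv]
      rw [hy9] at this
      calc t ^ 9 = g * (g⁻¹ * t ^ 9 * g) * g⁻¹ := by group
        _ = 1 := by rw [← this]; group
    have hs : t ^ (q ^ 2 - q + 1) = 1 := by
      have h1 : (⟨t, ht⟩ : tor q K) ^ Nat.card (tor q K) = 1 := pow_card_eq_one'
      rw [card_tor hF hK hac] at h1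
      exact congrArg Subtype.val h1
    have h4 := pow_gcd_eq_one.2 ⟨ht9, hs⟩
    have hdvd : Nat.gcd 9 (q ^ 2 - q + 1) ∣ 3 := by
      have hsq : q ^ 2 - q + 1 + q = q ^ 2 + 1 := by
        have : q ≤ q ^ 2 := Nat.le_self_pow two_ne_zero q
        omega
      have h9 : ¬ 9 ∣ q ^ 2 - q + 1 := by
        intro h9
        have hm : ∀ r < 9, (r ^ 2 + 1) % 9 ≠ r % 9 := by decide
        apply hm (q % 9) (Nat.mod_lt _ (by norm_num))
        obtain ⟨c, hc⟩ := h9
        rw [Nat.mod_mod, Nat.add_mod, ← Nat.pow_mod, ← Nat.add_mod, ← hsq, hc, Nat.mul_add_mod]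
      obtain ⟨i, hi, he⟩ := (Nat.dvd_prime_pow Nat.prime_three (m := 2)).1
        (Nat.gcd_dvd_left 9 (q ^ 2 - q + 1) : _ ∣ 3 ^ 2)
      rw [he]
      interval_cases i
      · norm_num
      · norm_num
      · have h10 := Nat.gcd_dvd_right 9 (q ^ 2 - q + 1)
        rw [he] at h10
        exact absurd h10 h9
    obtain ⟨c', hc'⟩ := hdvd
    refine h3 ((congrArg (fun n : ℕ => t ^ n) hc').trans ?_)
    show t ^ (Nat.gcd 9 (q ^ 2 - q + 1) * c') = 1
    rw [pow_mul, h4, one_pow]

end Cfsg.Agent.H36.SUThreeGeo.Singer
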