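import Cfsg.Agent.H36.SUThreeGeo.Singer.Arith
import Cfsg.Agent.H36.SUThreeGeo.Singer.Torus
import Cfsg.Agent.H72.PSUThree.Main
import Cfsg.Agent.H95.Dil

/-!
The normaliser of an adjoint-closed cubic field is maximal in `SU₃(q)` for `q ≠ 3, 5`.
-/

set_option autoImplicit false
set_option linter.unusedSectionVars false
set_option linter.style.haveILetI false

namespace Cfsg.Agent.H36.SUThreeGeo.Singer

open Cfsg Cfsg.Agent Cfsg.Agent.Unitary MulAction
open Cfsg.Agent.H52.SUThree Cfsg.Agent.H72.PSUThree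
open scoped MatrixGroups

/-- A trivial intersection subgroup moves the cosets of its normaliser in orbits of full length. -/
theorem index_modEq_one {Γ : Type*} [Group Γ] [Finite Γ] {T N Z : Subgroup Γ} {sb : ℕ}
    (hTN : T ≤ N) (hZT : Z ≤ T) (hZ : Z ≤ Subgroup.center Γ)
    (hTI : ∀ g ∉ N, ∀ t ∈ T, g⁻¹ * t * g ∈ N → t ∈ Z)
    (hsb : Nat.card T = Nat.card Z * sb) : sb ∣ N.index - 1 := by
  classical
  haveI : Fintype (Γ ⧸ N) := Fintype.ofFinite _
  haveI : Fintype T := Fintype.ofFinite _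
  haveI : ∀ x : Γ ⧸ N, Fintype (stabilizer T x) := fun _ => Fintype.ofFinite _
  haveI : Fintype (Quotient (orbitRel T (Γ ⧸ N))) := Fintype.ofFinite _
  have hsum := card_eq_sum_card_group_div_card_stabilizer T (Γ ⧸ N)
  set x₀ : Γ ⧸ N := ((1 : Γ) : Γ ⧸ N) with hx₀
  have hfix : ∀ t : T, t • x₀ = x₀ := fun t => by
    show (((t : Γ) * 1 : Γ) : Γ ⧸ N) = ((1 : Γ) : Γ ⧸ N)
    rw [mul_one, QuotientGroup.eq, mul_one]
    exact N.inv_mem (hTN t.2)
  set ω₀ : Quotient (orbitRel T (Γ ⧸ N)) := Quotient.mk'' x₀ with hω₀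
  have hout : ω₀.out = x₀ := by
    obtain ⟨t, ht⟩ := Quotient.exact (Quotient.out_eq ω₀)
    exact ht.symm.trans (hfix t)
  have h1 : Fintype.card T / Fintype.card (stabilizer T ω₀.out) = 1 := by
    rw [hout]
    have : stabilizer T x₀ = ⊤ := (Subgroup.eq_top_iff' _).2 hfix
    rw [← Nat.card_eq_fintype_card, ← Nat.card_eq_fintype_card, this, Subgroup.card_top,
      Nat.div_self Nat.card_pos]
  have hother : ∀ ω : Quotient (orbitRel T (Γ ⧸ N)), ω ≠ ω₀ →
      Fintype.card T / Fintype.card (stabilizer T ω.out) = sb := by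
    intro ω hω
    obtain ⟨g, hg⟩ := QuotientGroup.mk_surjective ω.out
    have hgN : g ∉ N := fun hgN => hω (by
      rw [hω₀, hx₀, ← Quotient.out_eq ω, ← hg]
      congr 1
      rw [QuotientGroup.eq, mul_one]
      exact N.inv_mem hgN)
    have hst : stabilizer T ω.out = Z.subgroupOf T := by
      ext t
      rw [mem_stabilizer_iff, ← hg, Subgroup.mem_subgroupOf]
      show (((t : Γ) * g : Γ) : Γ ⧸ N) = (g : Γ ⧸ N) ↔ (t : Γ) ∈ Z
      rw [eq_comm, QuotientGroup.eq]
      refine ⟨fun h => hTI g hgN t t.2 (by rwa [mul_assoc]), fun h => ?_⟩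
      rw [Subgroup.mem_center_iff.1 (hZ h) g |>.symm, inv_mul_cancel_left]
      exact hTN (hZT h)
    rw [← Nat.card_eq_fintype_card, ← Nat.card_eq_fintype_card, hst,
      Nat.card_congr (Subgroup.subgroupOfEquivOfLe hZT).toEquiv, hsb,
      Nat.mul_div_cancel_left _ Nat.card_pos]
  have hN : N.index = 1 + (Finset.univ.erase ω₀).card * sb := by
    rw [Subgroup.index, Nat.card_eq_fintype_card, hsum,
      ← Finset.add_sum_erase _ _ (Finset.mem_univ ω₀), h1,
      Finset.sum_congr rfl (fun ω hω => hother ω (Finset.mem_erase.1 hω).1), Finset.sum_const,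
      smul_eq_mul]
  rw [hN, Nat.add_sub_cancel_left]
  exact dvd_mul_left _ _

variable {F : Type*} [Field F] [Fintype F] {q : ℕ}

/-- No subgroup of order `16416` of `SU₃(8)` contains the centre. -/
theorem no_eight (hF : Fintype.card F = q ^ 2) (h8 : q = 8) {H : Subgroup (Cfsg.SU 3 F q)}
    (hcard : Nat.card H = 16416) (hZ : Subgroup.center (Cfsg.SU 3 F q) ≤ H) : False := by
  classical
  subst h8
  obtain ⟨u₁, w₁, f₁, hfr₁⟩ := exists_frame (F := F) hF
  have : Fact (Nat.Prime 2) := ⟨Nat.prime_two⟩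
  have : Fact (Nat.Prime 19) := ⟨by norm_num⟩
  have hpts := card_pts hF hfr₁
  obtain ⟨P, hP⟩ := Sylow.exists_subgroup_card_pow_prime (G := H) 2 (n := 5)
    (by rw [hcard]; norm_num)
  have hP2 : IsPGroup 2 P := IsPGroup.of_card hP
  obtain ⟨z, hz⟩ := hP2.nonempty_fixed_point_of_prime_not_dvd_card (IsoPoint 3 F 8)
    (by rw [hpts]; norm_num)
  obtain ⟨u, w, f, hfr, rfl⟩ := exists_frame_at hF z
  -- the elements of `P` are unipotent
  have huni : ∀ a : P, ((a : H) : Cfsg.SU 3 F 8) ∈ uni u := by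
    intro a
    have hst : ((a : H) : Cfsg.SU 3 F 8) ∈ st hfr := mem_stabilizer_iff.2 (hz a)
    refine (lamHom_eq_one_iff hF hfr (g := ⟨_, hst⟩)).1 ?_
    set l := lamHom hF hfr ⟨_, hst⟩
    have h32 : a ^ 32 = 1 := by
      have := pow_card_eq_one' (x := a)
      rwa [hP] at this
    have hl : l ^ 32 = 1 := by
      rw [← map_pow, ← map_one (lamHom hF hfr)]
      congr 1
      exact Subtype.ext (congrArg (fun x : P => ((x : H) : Cfsg.SU 3 F 8)) h32)
    have hl' : l ^ 63 = 1 := by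
      have := pow_card_eq_one' (x := l)
      rwa [Nat.card_units, Nat.card_eq_fintype_card, hF] at this
    simpa using pow_gcd_eq_one.2 ⟨hl, hl'⟩
  -- the orbit
  set O := orbit H (pu hfr) with hO
  let act : MulAction P {x : IsoPoint 3 F 8 // x ∈ O ∧ x ≠ pu hfr} :=
    { smul := fun a x => ⟨(a : H) • (x : IsoPoint 3 F 8), by
        obtain ⟨b, hb⟩ := x.2.1
        exact ⟨(a : H) * b, (mul_smul _ _ _).trans (congrArg _ hb)⟩, fun h => x.2.2
        ((MulAction.injective (a : H)) (h.trans (hz a).symm))⟩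
      one_smul := fun x => Subtype.ext (one_smul H (x : IsoPoint 3 F 8))
      mul_smul := fun a b x => Subtype.ext (mul_smul (a : H) (b : H) (x : IsoPoint 3 F 8)) }
  have hfree : ∀ x : {x : IsoPoint 3 F 8 // x ∈ O ∧ x ≠ pu hfr}, stabilizer P x = ⊥ := by
    intro x
    refine (Subgroup.eq_bot_iff_forall _).2 fun a ha => ?_
    by_contra ha1
    exact x.2.2 (uni_unique_fix hF hfr (huni a) (fun h => ha1 (Subtype.ext (Subtype.ext h)))
      (congrArg Subtype.val (mem_stabilizer_iff.1 ha)))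
  have hO32 : 32 ∣ Nat.card O - 1 := by
    have e : Nat.card O = Nat.card {x : IsoPoint 3 F 8 // x ∈ O ∧ x ≠ pu hfr} + 1 := by
      rw [← Finite.card_option]
      exact Nat.card_congr
        { toFun := fun x => if h : (x : IsoPoint 3 F 8) = pu hfr then none else some ⟨x, x.2, h⟩
          invFun := fun o => o.elim ⟨pu hfr, mem_orbit_self _⟩ fun x => ⟨x, x.2.1⟩
          left_inv := fun x => by
            by_cases h : (x : IsoPoint 3 F 8) = pu hfr <;> simp [h, Subtype.ext_iff]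
          right_inv := fun o => by
            rcases o with _ | x
            · simp
            · simp [x.2.2] }
    rw [e, Nat.add_sub_cancel, Nat.card_congr (selfEquivOrbitsQuotientProd hfree), Nat.card_prod, hP]
    exact dvd_mul_left _ _
  -- an element of order nineteen fixes no point
  have hO19 : 19 ∣ Nat.card O := by
    obtain ⟨r, hr⟩ := exists_prime_orderOf_dvd_card' (G := H) 19 (by rw [hcard]; norm_num)
    set R := Subgroup.zpowers r
    have hR : IsPGroup 19 R := IsPGroup.of_card (n := 1) (by rw [Nat.card_zpowers, hr, pow_one])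
    have hmod := hR.card_modEq_card_fixedPoints O
    have hempty : IsEmpty (fixedPoints R O) := ⟨fun x => by
      have hx : (r : H) • (x.1 : IsoPoint 3 F 8) = x.1 :=
        congrArg Subtype.val (x.2 ⟨r, Subgroup.mem_zpowers r⟩)
      obtain ⟨u', w', f', hfr', e⟩ := exists_frame_at hF (x.1 : IsoPoint 3 F 8)
      rw [← e] at hx
      have hmem : (r : Cfsg.SU 3 F 8) ∈ st hfr' := mem_stabilizer_iff.2 hx
      have h1 := Subgroup.orderOf_dvd_natCard (st hfr') hmem
      rw [card_st hF hfr', Subgroup.orderOf_coe, hr] at h1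
      norm_num at h1⟩
    rw [Nat.card_of_isEmpty (α := fixedPoints R O)] at hmod
    exact Nat.modEq_zero_iff_dvd.1 hmod
  -- the stabiliser
  have hprod := card_eq_orbit_mul H (pu hfr)
  rw [hcard, ← hO] at hprod
  have h3 : 3 ∣ Nat.card (H ⊓ stabilizer (Cfsg.SU 3 F 8) (pu hfr) : Subgroup (Cfsg.SU 3 F 8)) := by
    refine dvd_trans ?_ (Subgroup.card_dvd_of_le (le_inf hZ ?_))
    · rw [card_center_SU hF (by norm_num)]; norm_num
    · intro c hc
      obtain ⟨l, hl⟩ := eq_smul_of_mem_center hF (by norm_num) hc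
      refine mem_stabilizer_iff.2 ((smul_pu_iff hfr).2 ⟨l, fun h0 => ne_zero_u hfr ?_, hl u⟩)
      apply ap_injective c
      rw [hl, h0, zero_smul, ap_zero]
  have hle : Nat.card O ≤ 513 := by
    calc Nat.card O ≤ Nat.card (IsoPoint 3 F 8) :=
          Nat.card_le_card_of_injective _ Subtype.val_injective
      _ = 513 := by rw [hpts]; norm_num
  have hpos : 0 < Nat.card O := by
    haveI : Nonempty O := ⟨⟨_, mem_orbit_self _⟩⟩
    exact Nat.card_pos
  generalize Nat.card O = o at hprod hO32 hO19 hle hpos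
  generalize Nat.card (H ⊓ stabilizer (Cfsg.SU 3 F 8) (pu hfr) : Subgroup (Cfsg.SU 3 F 8)) = c
    at hprod h3
  have : o = 513 := by omega
  subst this
  omega

/-- Clause (4). -/
theorem singer_maximal_three (q : ℕ) (hF : Fintype.card F = q ^ 2) (hq : 3 ≤ q) (h3 : q ≠ 3) (h5 : q ≠ 5)
    (K : Subalgebra F (Matrix (Fin 3) (Fin 3) F)) (hK : Geo.IsFieldSubalgebra 3 K)
    (hac : Geo.IsAdjointClosedFor (Cfsg.hermForm 3 F q) K) :
    Geo.IsMaximalIn (Cfsg.GU 3 F q ⊓ Geo.specialLinear (Fin 3) F)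
      (Geo.subalgebraNormalizer K ⊓ (Cfsg.GU 3 F q ⊓ Geo.specialLinear (Fin 3) F)) := by
  classical
  set G := Cfsg.SU 3 F q
  set s := q ^ 2 - q + 1 with hs
  have hsq : s + q = q ^ 2 + 1 := by
    have : q ≤ q ^ 2 := Nat.le_self_pow two_ne_zero q
    omega
  have hcG : Nat.card G = q ^ 3 * (q ^ 2 - 1) * (q ^ 3 + 1) := H53.card_SU_three hF
  have hq1 : q ^ 3 + 1 = (q + 1) * s := by nlinarith
  have hq2 : q ^ 2 - 1 = (q + 1) * (q - 1) := by simpa using Nat.sq_sub_sq q 1
  set D := (q + 1) ^ 2 * (q - 1) with hD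
  have hcG' : Nat.card G = q ^ 3 * D * s := by rw [hcG, hq1, hq2, hD]; ring
  set T := tor q K
  set N := nor q K
  set Z := Subgroup.center G
  have hZT : Z ≤ T := center_le_tor hF
  have hTN : T ≤ N := tor_le_nor hK
  have hcT : Nat.card T = s := card_tor hF hK hac
  obtain ⟨sb, hsb⟩ : ∃ sb, s = Nat.card Z * sb := hcT ▸ Subgroup.card_dvd_of_le hZT
  have hd : Nat.card Z = Nat.gcd 3 s := by
    rw [card_center_SU hF (by norm_num)]
    have key : ∀ a b : ℕ, (3 ∣ a ↔ 3 ∣ b) → Nat.gcd 3 a = Nat.gcd 3 b := fun a b h => by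
      by_cases ha : 3 ∣ a
      · rw [Nat.gcd_eq_left ha, Nat.gcd_eq_left (h.1 ha)]
      · rw [(Nat.prime_three.coprime_iff_not_dvd.2 ha).gcd_eq_one,
          (Nat.prime_three.coprime_iff_not_dvd.2 (mt h.2 ha)).gcd_eq_one]
    refine key _ _ ?_
    have h1 : (q + 1) ^ 2 = s + 3 * q := by rw [show s + 3 * q = s + q + 2 * q by ring, hsq]; ring
    constructor
    · intro h
      have h2 : 3 ∣ s + 3 * q := h1 ▸ dvd_pow h two_ne_zero
      exact (Nat.dvd_add_left (dvd_mul_right 3 q)).1 h2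
    · intro h
      exact Nat.prime_three.dvd_of_dvd_pow (h1.symm ▸ dvd_add h (dvd_mul_right 3 q))
  -- the congruence for every overgroup
  have hcong : ∀ H : Subgroup G, N ≤ H →
      ∃ m k, Nat.card H = Nat.card N * m ∧ m = 1 + k * sb := by
    intro H hH
    have h := index_modEq_one (Γ := H) (T := T.subgroupOf H) (N := N.subgroupOf H)
      (Z := Z.subgroupOf H) (sb := sb) (fun x hx => hTN hx) (fun x hx => hZT hx)
      (fun x hx => Subgroup.mem_center_iff.2 fun y => Subtype.ext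
        (Subgroup.mem_center_iff.1 hx (y : G)))
      (fun g hg t ht htg => tor_ti hF hK hac (g := (g : G)) hg ht htg)
      (by
        rw [Nat.card_congr (Subgroup.subgroupOfEquivOfLe (hTN.trans hH)).toEquiv,
          Nat.card_congr (Subgroup.subgroupOfEquivOfLe ((hZT.trans hTN).trans hH)).toEquiv, hcT, hsb])
    obtain ⟨k, hk⟩ := h
    refine ⟨(N.subgroupOf H).index, k, ?_, ?_⟩
    · rw [← (N.subgroupOf H).card_mul_index, Nat.card_congr (Subgroup.subgroupOfEquivOfLe hH).toEquiv]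
    · have : (N.subgroupOf H).index ≠ 0 := Subgroup.index_ne_zero_of_finite
      rw [mul_comm]
      omega
  -- the order of the normaliser
  obtain ⟨e, he3, hcN⟩ := exists_card_nor hF hK hac
  rw [← hs] at hcN
  have hs13 : 13 ≤ s := by
    have : 4 * q ≤ q ^ 2 := by rw [sq]; exact Nat.mul_le_mul_right q (by omega)
    omega
  have he : e = 3 := by
    obtain ⟨m, k, hm, rfl⟩ := hcong ⊤ le_top
    rw [Subgroup.card_top, hcG', hcN] at hm
    have hm' : q ^ 3 * D = e * (1 + k * sb) :=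
      Nat.eq_of_mul_eq_mul_right (show 0 < s by omega) (by rw [hm]; ring)
    obtain ⟨r, hr⟩ : ∃ r : ℤ, ((q : ℤ) ^ 3 * D - 3) = r * s := by
      have hD' : (D : ℤ) = ((q : ℤ) + 2) * s - 3 := by
        have hsq' : (s : ℤ) = (q : ℤ) ^ 2 + 1 - q := by
          have := congrArg (Nat.cast : ℕ → ℤ) hsq
          push_cast at this
          linarith
        rw [hD, hsq', Nat.cast_mul, Nat.cast_pow, Nat.cast_sub (by omega : 1 ≤ q)]
        push_cast
        ring
      have hq' : (q : ℤ) ^ 3 = ((q : ℤ) + 1) * s - 1 := by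
        have := congrArg (Nat.cast : ℕ → ℤ) hq1
        push_cast at this
        linarith
      exact ⟨((q : ℤ) + 1) * (((q : ℤ) + 2) * s - 3) - ((q : ℤ) + 2), by rw [hD', hq']; ring⟩
    have hdv : (sb : ℤ) ∣ (3 : ℤ) - e := by
      refine ⟨(e : ℤ) * k - r * Nat.card Z, ?_⟩
      have h1 := congrArg (Nat.cast : ℕ → ℤ) hm'
      have h2 := congrArg (Nat.cast : ℕ → ℤ) hsb
      push_cast at h1 h2
      linear_combination -hr + h1 - r * h2
    have hd3 : Nat.card Z ≤ 3 := hd ▸ Nat.gcd_le_left _ (by norm_num)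
    have hsb4 : 3 < sb := by
      by_contra hcon
      have := Nat.mul_le_mul hd3 (not_lt.1 hcon)
      omega
    have h4 : (3 : ℤ) - e = 0 := by
      refine Int.eq_zero_of_dvd_of_natAbs_lt_natAbs hdv ?_
      omega
    omega
  subst he
  have hrange : ∀ x : GL (Fin 3) F, x ∈ Cfsg.GU 3 F q ⊓ Geo.specialLinear (Fin 3) F →
      ∃ g : G, toGL3 F q g = x := fun x hx =>
    ⟨⟨⟨(x : Matrix (Fin 3) (Fin 3) F), H95.mem_specialLinear_iff.1 hx.2⟩, hx.1⟩, Units.ext rfl⟩
  have hmem : ∀ g : G, toGL3 F q g ∈ Cfsg.GU 3 F q ⊓ Geo.specialLinear (Fin 3) F := fun g =>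
    ⟨g.2, H95.mem_specialLinear_iff.2 (det_toGL3 g)⟩
  have hD1 : 0 < D := Nat.mul_pos (by positivity) (by omega)
  have hsbeq : Nat.gcd 3 s * sb = s := by rw [← hd]; exact hsb.symm
  have hbig : D + 3 = (q + 2) * s := by
    rw [hD]
    obtain ⟨r, rfl⟩ : ∃ r, q = r + 1 := ⟨q - 1, by omega⟩
    rw [Nat.add_sub_cancel]
    nlinarith
  refine ⟨lt_of_le_not_ge inf_le_right fun hle => ?_, fun M hSM hMG => ?_⟩
  · have htop : N = ⊤ := (Subgroup.eq_top_iff' _).2 fun g => (hle (hmem g)).1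
    have h := hcN
    rw [show nor q K = ⊤ from htop, Subgroup.card_top, hcG'] at h
    have h' : q ^ 3 * D = 3 := Nat.eq_of_mul_eq_mul_right (show 0 < s by omega) h
    have h4 : 4 ^ 3 ≤ q ^ 3 := Nat.pow_le_pow_left (by omega) 3
    have := Nat.le_mul_of_pos_right (q ^ 3) hD1
    omega
  set H := M.comap (toGL3 F q) with hH
  have hNH : N ≤ H := fun g hg => hSM ⟨hg, hmem g⟩
  by_cases hHtop : H = ⊤
  · right
    refine le_antisymm hMG fun x hx => ?_
    obtain ⟨g, rfl⟩ := hrange x hx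
    exact (hHtop.ge (Subgroup.mem_top g) : g ∈ H)
  left
  refine le_antisymm (fun x hx => ?_) hSM
  obtain ⟨g, rfl⟩ := hrange x (hMG hx)
  refine ⟨?_, hMG hx⟩
  suffices H = N from this.le (show g ∈ H from hx)
  obtain ⟨m, k, hm, hmk⟩ := hcong H hNH
  rcases Nat.eq_zero_or_pos k with hk0 | hk0
  · refine (Subgroup.eq_of_le_of_card_ge hNH ?_).symm
    rw [hm, hmk, hk0, zero_mul, add_zero, mul_one]
  exfalso
  have hZH : Z ≤ H := (hZT.trans hTN).trans hNH
  have hindex : q ^ 3 < H.index := by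
    by_contra hcon
    exact h5 (Good.main hF (H := H) hq ⟨hHtop, hZH, not_lt.1 hcon⟩).1
  have hcard := H.card_mul_index
  rw [hcG'] at hcard
  rw [hcN, hmk] at hm
  have hdvd : 3 * (1 + k * sb) ∣ q ^ 3 * D := by
    refine Nat.dvd_of_mul_dvd_mul_right (show 0 < s by omega) ⟨H.index, ?_⟩
    rw [← hcard, hm]; ring
  have hlt : 3 * (1 + k * sb) < D := by
    refine Nat.lt_of_mul_lt_mul_left (a := s * q ^ 3) ?_
    calc s * q ^ 3 * (3 * (1 + k * sb)) = Nat.card H * q ^ 3 := by rw [hm]; ring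
      _ < Nat.card H * H.index := Nat.mul_lt_mul_of_pos_left hindex Nat.card_pos
      _ = s * q ^ 3 * D := by rw [hcard]; ring
  obtain ⟨p, f, hp, -, -, hqp⟩ := Unitary.exists_char_pow hF
  obtain ⟨h8, h96⟩ := singer_arith hp hqp hq h3 h5 hsbeq hk0 hlt hdvd
  refine no_eight hF h8 ?_ hZH
  rw [hm, h96, hs, h8]
  norm_num

end Cfsg.Agent.H36.SUThreeGeo.Singer
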